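import Groth.Agent.L02.CAlg.AdicDecay.Finsupp
import Mathlib.RingTheory.TensorProduct.Maps
import Mathlib.LinearAlgebra.TensorProduct.Tower
import Mathlib.LinearAlgebra.DirectSum.Finsupp

/-!
Completed base change of completions and of adically free modules.
-/

set_option autoImplicit false

universe u

open Submodule W4c5adicflatcompl TensorProduct

namespace L02.CAlg.AdicDecay

variable {A B : Type*} [CommRing A] [CommRing B] [Algebra A B] {I : Ideal A} {J : Ideal B}
variable {N : Type*} [AddCommGroup N] [Module A N]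

theorem tmul_mem_pow_smul_top (hIJ : I.map (algebraMap A B) ≤ J) {n : ℕ} {y : N}
    (hy : y ∈ (I ^ n • ⊤ : Submodule A N)) (b : B) :
    b ⊗ₜ[A] y ∈ (J ^ n • ⊤ : Submodule B (B ⊗[A] N)) := by
  refine Submodule.smul_induction_on hy (fun a ha x _ => ?_) fun x y hx hy => ?_
  · rw [TensorProduct.tmul_smul, ← algebraMap_smul B a (b ⊗ₜ[A] x)]
    refine Submodule.smul_mem_smul ?_ Submodule.mem_top
    refine Ideal.pow_right_mono hIJ n ?_
    rw [← Ideal.map_pow]
    exact Ideal.mem_map_of_mem _ ha
  · rw [TensorProduct.tmul_add]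
    exact Submodule.add_mem _ hx hy

/-- `N/I^n → (B ⊗ N)/J^n` after evaluation. -/
noncomputable def compEval (hIJ : I.map (algebraMap A B) ≤ J) (n : ℕ) :
    AdicCompletion I N →ₗ[A] (B ⊗[A] N) ⧸ (J ^ n • ⊤ : Submodule B (B ⊗[A] N)) :=
  (Submodule.liftQ _ (((Submodule.mkQ (J ^ n • ⊤ : Submodule B (B ⊗[A] N))).restrictScalars A) ∘ₗ
      TensorProduct.mk A B N 1) (fun y hy => by
        rw [LinearMap.mem_ker]
        simpa using (Submodule.Quotient.mk_eq_zero _).mpr (tmul_mem_pow_smul_top hIJ hy 1))) ∘ₗ
    AdicCompletion.eval I N n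

theorem compEval_of (hIJ : I.map (algebraMap A B) ≤ J) (n : ℕ) (x : N) :
    compEval hIJ n (AdicCompletion.of I N x) =
      Submodule.Quotient.mk (p := (J ^ n • ⊤ : Submodule B (B ⊗[A] N))) ((1 : B) ⊗ₜ[A] x) := rfl

theorem compEval_val (hIJ : I.map (algebraMap A B) ≤ J) (n : ℕ) {y : AdicCompletion I N} {x : N}
    (h : y.val n = Submodule.Quotient.mk x) :
    compEval hIJ n y =
      Submodule.Quotient.mk (p := (J ^ n • ⊤ : Submodule B (B ⊗[A] N))) ((1 : B) ⊗ₜ[A] x) := by
  simp only [compEval, LinearMap.comp_apply, AdicCompletion.eval_apply, h]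
  rfl

theorem compEval_compat (hIJ : I.map (algebraMap A B) ≤ J) {m n : ℕ} (hle : m ≤ n)
    (y : AdicCompletion I N) :
    AdicCompletion.transitionMap J (B ⊗[A] N) hle (compEval hIJ n y) = compEval hIJ m y := by
  obtain ⟨x, hx⟩ := Submodule.Quotient.mk_surjective _ (y.val n)
  have hm : y.val m = Submodule.Quotient.mk x := by
    rw [← y.property hle, ← hx]
    rfl
  rw [compEval_val hIJ n hx.symm, compEval_val hIJ m hm]
  rfl

/-- `B ⊗ N^ → (B ⊗ N)^`. -/
noncomputable def tensorCompletionMap (hIJ : I.map (algebraMap A B) ≤ J) :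
    B ⊗[A] AdicCompletion I N →ₗ[B] AdicCompletion J (B ⊗[A] N) :=
  AdicCompletion.lift J (fun n => (compEval hIJ n).liftBaseChange B) fun {m n} hle => by
    refine TensorProduct.AlgebraTensorModule.ext fun b y => ?_
    simp only [LinearMap.comp_apply, LinearMap.liftBaseChange_tmul, map_smul,
      compEval_compat hIJ hle]

theorem tensorCompletionMap_val (hIJ : I.map (algebraMap A B) ≤ J) (b : B)
    (y : AdicCompletion I N) (n : ℕ) :
    (tensorCompletionMap hIJ (b ⊗ₜ[A] y)).val n = b • compEval hIJ n y := by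
  rfl

/-- `(B ⊗ N)^ ≅ (B ⊗ N^)^`. -/
noncomputable def completionTensorEquiv (hI : I.FG) (hJ : J.FG)
    (hIJ : I.map (algebraMap A B) ≤ J) :
    AdicCompletion J (B ⊗[A] N) ≃ₗ[B] AdicCompletion J (B ⊗[A] AdicCompletion I N) :=
  haveI := AdicCompletion.isAdicComplete (M := B ⊗[A] N) hJ
  haveI := AdicCompletion.isAdicComplete (M := B ⊗[A] AdicCompletion I N) hJ
  haveI := AdicCompletion.isAdicComplete (M := N) hI
  LinearEquiv.ofLinearMap
    ((AdicCompletion.map J ((AdicCompletion.of I N).baseChange B)).restrictScalars B)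
    (extend J (tensorCompletionMap hIJ))
    (completion_hom_ext J fun w => by
      rw [LinearMap.comp_apply, extend_of, LinearMap.id_apply]
      induction w using TensorProduct.induction_on with
      | zero => simp
      | add x y hx hy => simp only [map_add, hx, hy]
      | tmul b y =>
        refine AdicCompletion.ext fun n => ?_
        obtain ⟨x, hx⟩ := Submodule.Quotient.mk_surjective _ (y.val n)
        rw [LinearMap.restrictScalars_apply, AdicCompletion.map_val_apply, tensorCompletionMap_val,
          compEval_val hIJ n hx.symm, ← Submodule.Quotient.mk_smul]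
        show Submodule.Quotient.mk _ = Submodule.Quotient.mk _
        rw [Submodule.Quotient.eq, TensorProduct.smul_tmul', smul_eq_mul, mul_one,
          LinearMap.baseChange_tmul, ← TensorProduct.tmul_sub]
        refine tmul_mem_pow_smul_top hIJ ?_ b
        rw [← neg_sub]
        refine Submodule.neg_mem _ (mem_pow_smul_top_of_val_eq_zero I ?_)
        rw [AdicCompletion.val_sub_apply, AdicCompletion.of_apply, Submodule.mkQ_apply, hx,
          sub_self])
    (completion_hom_ext J fun w => by
      rw [LinearMap.comp_apply, LinearMap.restrictScalars_apply, AdicCompletion.map_of, extend_of,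
        LinearMap.id_apply]
      induction w using TensorProduct.induction_on with
      | zero => simp
      | add x y hx hy => simp only [map_add, hx, hy]
      | tmul b x =>
        refine AdicCompletion.ext fun n => ?_
        rw [LinearMap.baseChange_tmul, tensorCompletionMap_val, compEval_of,
          ← Submodule.Quotient.mk_smul, TensorProduct.smul_tmul', smul_eq_mul, mul_one]
        rfl)

/-- Completion of modules, functorial in isomorphisms. -/
noncomputable def completionCongr {R : Type*} [CommRing R] (K : Ideal R) {X Y : Type*}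
    [AddCommGroup X] [Module R X] [AddCommGroup Y] [Module R Y] (e : X ≃ₗ[R] Y) :
    AdicCompletion K X ≃ₗ[R] AdicCompletion K Y :=
  (AdicCompletion.congr K e).restrictScalars R

theorem isAdicFree_baseChange {A B : Type u} [CommRing A] [CommRing B] [Algebra A B]
    {I : Ideal A} {J : Ideal B} (hI : I.FG) (hJ : J.FG) (hIJ : I.map (algebraMap A B) ≤ J)
    (P : Type u) [AddCommGroup P] [Module A P] (hP : IsAdicFree I P) :
    IsAdicFree J (AdicCompletion J (B ⊗[A] P)) := by
  classical
  obtain ⟨Z, ⟨e⟩⟩ := hP
  haveI := AdicCompletion.isAdicComplete (M := A) hI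
  haveI := AdicCompletion.isAdicComplete (M := B) hJ
  let e1 : P ≃ₗ[A] AdicCompletion I (Z →₀ A) := e.trans (completionEquiv I Z A).symm
  let e2 : B ⊗[A] P ≃ₗ[B] B ⊗[A] AdicCompletion I (Z →₀ A) :=
    TensorProduct.AlgebraTensorModule.congr (LinearEquiv.refl B B) e1
  let e3 : B ⊗[A] (Z →₀ A) ≃ₗ[B] (Z →₀ B) := TensorProduct.finsuppScalarRight A B B Z
  exact ⟨Z, ⟨(completionCongr J e2).trans ((completionTensorEquiv hI hJ hIJ).symm.trans
    ((completionCongr J e3).trans (completionEquiv J Z B)))⟩⟩

end L02.CAlg.AdicDecay
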