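import Mathlib.RingTheory.AdicCompletion.Completeness
import Mathlib.RingTheory.AdicCompletion.Noetherian
import Mathlib.RingTheory.Flat.Tensor
import Mathlib.RingTheory.TensorProduct.Finite
import Mathlib.LinearAlgebra.TensorProduct.Pi
import Mathlib.LinearAlgebra.TensorProduct.RightExactness
import Mathlib.RingTheory.Filtration
import Mathlib.Tactic

/-!
General facts on adic completions: the kernel of evaluation when the completion is complete,
universal property of the completion towards complete modules.
-/

set_option autoImplicit false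

open Submodule

namespace L02.CAlg.AdicDecay

variable {A : Type*} [CommRing A] (I : Ideal A)
variable {M : Type*} [AddCommGroup M] [Module A M]
variable {N : Type*} [AddCommGroup N] [Module A N]

theorem pow_smul_top_antitone {m n : ℕ} (h : m ≤ n) :
    (I ^ n • ⊤ : Submodule A M) ≤ I ^ m • ⊤ :=
  Submodule.smul_mono_left (Ideal.pow_le_pow_right h)

theorem map_mem_pow_smul_top (f : M →ₗ[A] N) {n : ℕ} {x : M}
    (hx : x ∈ (I ^ n • ⊤ : Submodule A M)) : f x ∈ (I ^ n • ⊤ : Submodule A N) := by
  have := Submodule.mem_map_of_mem (f := f) hx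
  rw [Submodule.map_smul''] at this
  exact Submodule.smul_mono le_rfl le_top this

theorem eq_zero_of_forall_mem_pow [IsHausdorff I M] {x : M}
    (h : ∀ n, x ∈ (I ^ n • ⊤ : Submodule A M)) : x = 0 :=
  IsHausdorff.haus' x fun n => SModEq.zero.mpr (h n)

theorem eq_of_forall_sub_mem_pow [IsHausdorff I M] {x y : M}
    (h : ∀ n, x - y ∈ (I ^ n • ⊤ : Submodule A M)) : x = y :=
  sub_eq_zero.mp (eq_zero_of_forall_mem_pow I h)

theorem exists_limit [IsPrecomplete I M] (f : ℕ → M)
    (h : ∀ n, f (n + 1) - f n ∈ (I ^ n • ⊤ : Submodule A M)) :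
    ∃ L : M, ∀ n, L - f n ∈ (I ^ n • ⊤ : Submodule A M) := by
  have hc : AdicCompletion.IsAdicCauchy I M f := by
    rw [AdicCompletion.isAdicCauchy_iff]
    exact fun n => (SModEq.sub_mem.mpr (h n)).symm
  obtain ⟨L, hL⟩ := IsPrecomplete.prec' f hc
  exact ⟨L, fun n => SModEq.sub_mem.mp (hL n).symm⟩

/-- an element of the completion with vanishing `n`-th component, mod `n+1`. -/
theorem exists_rep (x : AdicCompletion I M) (n : ℕ) :
    ∃ y : M, (x - AdicCompletion.of I M y).val n = 0 := by
  obtain ⟨y, hy⟩ := Submodule.Quotient.mk_surjective _ (x.val n)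
  refine ⟨y, ?_⟩
  rw [AdicCompletion.val_sub_apply, AdicCompletion.of_apply, Submodule.mkQ_apply, hy, sub_self]

theorem val_eq_zero_of_mem {x : AdicCompletion I M} {n : ℕ}
    (hx : x ∈ (I ^ n • ⊤ : Submodule A (AdicCompletion I M))) : x.val n = 0 :=
  LinearMap.mem_ker.mp (AdicCompletion.pow_smul_top_le_ker_eval I n hx)

theorem val_eq_zero_of_le {x : AdicCompletion I M} {m n : ℕ} (h : m ≤ n) (hx : x.val n = 0) :
    x.val m = 0 := by
  rw [← x.property h, hx, map_zero]

theorem mem_of_val_of_eq_zero {y : M} {n : ℕ} (h : (AdicCompletion.of I M y).val n = 0) :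
    y ∈ (I ^ n • ⊤ : Submodule A M) := by
  rwa [AdicCompletion.of_apply, Submodule.mkQ_apply, Submodule.Quotient.mk_eq_zero] at h

/-- If the completion is precomplete, then the kernel of evaluation at `n` is `I^n M^`. -/
theorem mem_pow_smul_top_of_val_eq_zero [IsPrecomplete I (AdicCompletion I M)]
    {x : AdicCompletion I M} {n : ℕ} (hx : x.val n = 0) :
    x ∈ (I ^ n • ⊤ : Submodule A (AdicCompletion I M)) := by
  let g : ℕ → AdicCompletion I M := fun i => Nat.rec (motive := fun _ => AdicCompletion I M) x
    (fun i xi => xi - AdicCompletion.of I M (exists_rep I xi (n + i + 1)).choose) i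
  have hg : ∀ i, (g i).val (n + i) = 0 := by
    intro i
    cases i with
    | zero => exact hx
    | succ i => exact (exists_rep I (g i) (n + i + 1)).choose_spec
  have hd : ∀ i, g (i + 1) - g i ∈ (I ^ (n + i) • ⊤ : Submodule A (AdicCompletion I M)) := by
    intro i
    have e : g (i + 1) = g i - AdicCompletion.of I M (exists_rep I (g i) (n + i + 1)).choose := rfl
    set y := (exists_rep I (g i) (n + i + 1)).choose
    rw [e, sub_sub_cancel_left]
    refine Submodule.neg_mem _ (map_mem_pow_smul_top I (AdicCompletion.of I M) ?_)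
    apply mem_of_val_of_eq_zero
    have h1 : (g (i + 1)).val (n + i) = 0 := val_eq_zero_of_le I (by omega) (hg (i + 1))
    rw [e, AdicCompletion.val_sub_apply, hg i, zero_sub, neg_eq_zero] at h1
    exact h1
  obtain ⟨L, hL⟩ := exists_limit I (fun j => g (j - n)) (fun j => by
    by_cases h : n ≤ j
    · obtain ⟨i, rfl⟩ := Nat.exists_eq_add_of_le h
      simpa [show n + i + 1 - n = i + 1 by omega] using hd i
    · simp [show j + 1 - n = 0 by omega, show j - n = 0 by omega])
  have hL0 : L = 0 := by
    refine AdicCompletion.ext fun j => ?_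
    rw [AdicCompletion.val_zero_apply]
    refine val_eq_zero_of_le I (show j ≤ n + j by omega) ?_
    have h2 := val_eq_zero_of_mem I (hL (n + j))
    rw [AdicCompletion.val_sub_apply, show n + j - n = j by omega, hg j, sub_zero] at h2
    exact h2
  have h3 := hL n
  rw [hL0, Nat.sub_self, zero_sub] at h3
  exact (Submodule.neg_mem_iff _).mp h3

theorem exists_sub_of_mem_pow [IsPrecomplete I (AdicCompletion I M)] (n : ℕ)
    (x : AdicCompletion I M) :
    ∃ y : M, x - AdicCompletion.of I M y ∈ (I ^ n • ⊤ : Submodule A (AdicCompletion I M)) := by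
  obtain ⟨y, hy⟩ := exists_rep I x n
  exact ⟨y, mem_pow_smul_top_of_val_eq_zero I hy⟩

theorem mem_pow_iff_val_eq_zero [IsPrecomplete I (AdicCompletion I M)] {x : AdicCompletion I M}
    {n : ℕ} : x ∈ (I ^ n • ⊤ : Submodule A (AdicCompletion I M)) ↔ x.val n = 0 :=
  ⟨val_eq_zero_of_mem I, mem_pow_smul_top_of_val_eq_zero I⟩

theorem isAdicComplete_of_forall_exists_sub
    (h : ∀ (n : ℕ) (x : AdicCompletion I M), ∃ y : M,
      x - AdicCompletion.of I M y ∈ (I ^ n • ⊤ : Submodule A (AdicCompletion I M))) :
    IsAdicComplete I (AdicCompletion I M) := by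
  have key : ∀ (n : ℕ) (x : AdicCompletion I M), x.val n = 0 →
      x ∈ (I ^ n • ⊤ : Submodule A (AdicCompletion I M)) := by
    intro n x hx
    obtain ⟨y, hy⟩ := h n x
    have h1 := val_eq_zero_of_mem I hy
    rw [AdicCompletion.val_sub_apply, hx, zero_sub, neg_eq_zero] at h1
    have h2 := map_mem_pow_smul_top I (AdicCompletion.of I M) (mem_of_val_of_eq_zero I h1)
    simpa using Submodule.add_mem _ hy h2
  refine { prec' := fun f hf => ?_ }
  have hf' : ∀ {m n : ℕ}, m ≤ n → (f m).val m = (f n).val m := fun {m n} hmn => by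
    have := val_eq_zero_of_mem I (SModEq.sub_mem.mp (hf hmn))
    rw [AdicCompletion.val_sub_apply] at this
    exact sub_eq_zero.mp this
  let L : AdicCompletion I M := ⟨fun i => (f i).val i, fun {m n} hmn => by
    show AdicCompletion.transitionMap I M hmn ((f n).val n) = (f m).val m
    rw [(f n).property hmn]
    exact (hf' hmn).symm⟩
  refine ⟨L, fun n => SModEq.sub_mem.mpr (key n _ ?_)⟩
  rw [AdicCompletion.val_sub_apply]
  exact sub_eq_zero.mpr rfl

/-- Two maps out of a completion into a Hausdorff module agreeing on `M` agree. -/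
theorem completion_hom_ext [IsPrecomplete I (AdicCompletion I M)] [IsHausdorff I N]
    {φ ψ : AdicCompletion I M →ₗ[A] N}
    (h : ∀ x, φ (AdicCompletion.of I M x) = ψ (AdicCompletion.of I M x)) : φ = ψ := by
  refine LinearMap.ext fun x => eq_of_forall_sub_mem_pow I fun n => ?_
  obtain ⟨y, hy⟩ := exists_sub_of_mem_pow I n x
  have := map_mem_pow_smul_top I (φ - ψ) hy
  simpa [h] using this

/-- The extension of a map into a complete module to the completion. -/
noncomputable def extend [IsAdicComplete I N] (f : M →ₗ[A] N) : AdicCompletion I M →ₗ[A] N :=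
  (AdicCompletion.ofLinearEquiv I N).symm.toLinearMap ∘ₗ
    (AdicCompletion.map I f).restrictScalars A

@[simp]
theorem extend_of [IsAdicComplete I N] (f : M →ₗ[A] N) (x : M) :
    extend I f (AdicCompletion.of I M x) = f x := by
  simp only [extend, LinearMap.comp_apply, LinearMap.restrictScalars_apply, LinearEquiv.coe_coe,
    AdicCompletion.map_of, AdicCompletion.ofLinearEquiv_symm_of]

theorem isAdicComplete_of_linearEquiv [IsAdicComplete I M] (e : M ≃ₗ[A] N) :
    IsAdicComplete I N := by
  refine { haus' := fun x hx => ?_, prec' := fun f hf => ?_ }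
  · apply e.symm.injective
    rw [map_zero]
    exact eq_zero_of_forall_mem_pow I fun n =>
      map_mem_pow_smul_top I e.symm.toLinearMap (SModEq.zero.mp (hx n))
  · obtain ⟨L, hL⟩ := exists_limit I (fun n => e.symm (f n)) (fun n => by
      rw [← map_sub]
      exact map_mem_pow_smul_top I e.symm.toLinearMap
        (SModEq.sub_mem.mp (hf (Nat.le_succ n)).symm))
    refine ⟨e L, fun n => (SModEq.sub_mem.mpr ?_).symm⟩
    have := map_mem_pow_smul_top I e.toLinearMap (hL n)
    simpa using this

theorem isAdicComplete_of_retract [IsAdicComplete I M] (i : N →ₗ[A] M) (r : M →ₗ[A] N)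
    (h : r ∘ₗ i = LinearMap.id) : IsAdicComplete I N := by
  have h' : ∀ x, r (i x) = x := fun x => LinearMap.congr_fun h x
  refine { haus' := fun x hx => ?_, prec' := fun f hf => ?_ }
  · have h0 : i x = 0 := eq_zero_of_forall_mem_pow I fun n =>
      map_mem_pow_smul_top I i (SModEq.zero.mp (hx n))
    rw [← h' x, h0, map_zero]
  · obtain ⟨L, hL⟩ := exists_limit I (fun n => i (f n)) (fun n => by
      rw [← map_sub]
      exact map_mem_pow_smul_top I i (SModEq.sub_mem.mp (hf (Nat.le_succ n)).symm))
    refine ⟨r L, fun n => (SModEq.sub_mem.mpr ?_).symm⟩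
    have := map_mem_pow_smul_top I r (hL n)
    simpa [h'] using this

/-- The retraction `(M^)^ → M^`. -/
noncomputable def retraction :
    AdicCompletion I (AdicCompletion I M) →ₗ[A] AdicCompletion I M :=
  AdicCompletion.lift I
    (fun n => (Submodule.liftQ _ (AdicCompletion.eval I M n)
      (AdicCompletion.pow_smul_top_le_ker_eval I n)) ∘ₗ
        AdicCompletion.eval I (AdicCompletion I M) n)
    (fun {m n} hle => by
      refine LinearMap.ext fun z => ?_
      obtain ⟨y, hy⟩ := Submodule.Quotient.mk_surjective _ (z.val n)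
      have hz : z.val m = Submodule.Quotient.mk y := by
        rw [← z.property hle, ← hy]
        rfl
      simp only [LinearMap.comp_apply, AdicCompletion.eval_apply, ← hy, hz]
      exact y.property hle)

theorem retraction_of (x : AdicCompletion I M) :
    retraction I (AdicCompletion.of I (AdicCompletion I M) x) = x :=
  AdicCompletion.ext fun _ => rfl

end L02.CAlg.AdicDecay
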