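import Groth.Agent.L02.CAlg.AdicDecay.Finsupp

/-!
Decaying functions into finitely generated modules over a Noetherian ring; tensor products,
flatness.
-/

set_option autoImplicit false

open Submodule W4c5adicflatcompl TensorProduct

namespace L02.CAlg.AdicDecay

variable {A : Type*} [CommRing A] (I : Ideal A) {Z : Type*}
variable {M : Type*} [AddCommGroup M] [Module A M]

theorem mem_decaying_submodule_iff [IsNoetherianRing A] [Module.Finite A M] (N : Submodule A M)
    (f : Z → N) : f ∈ decaying I Z N ↔ (fun z => (f z : M)) ∈ decaying I Z M := by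
  refine ⟨fun h => comp_mem_decaying I N.subtype h, fun h n => ?_⟩
  obtain ⟨k, hk⟩ := Ideal.exists_pow_inf_eq_pow_smul I N
  refine (h (n + k)).subset fun z hz => ?_
  intro hz'
  refine hz ?_
  have h1 : (f z : M) ∈ (I ^ n • N : Submodule A M) := by
    have h2 : (f z : M) ∈ (I ^ (n + k) • ⊤ ⊓ N : Submodule A M) := ⟨hz', (f z).2⟩
    rw [hk (n + k) (Nat.le_add_left k n), Nat.add_sub_cancel] at h2
    exact Submodule.smul_mono le_rfl inf_le_right h2
  have h3 : Submodule.map N.subtype (I ^ n • ⊤ : Submodule A N) = I ^ n • N := by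
    rw [Submodule.map_smul'', Submodule.map_top, Submodule.range_subtype]
  rw [← h3] at h1
  obtain ⟨w, hw, hwe⟩ := h1
  rwa [Subtype.ext hwe] at hw

theorem exists_lift_mem_pow {N : Type*} [AddCommGroup N] [Module A N] {φ : M →ₗ[A] N}
    (hφ : Function.Surjective φ) {n : ℕ} {y : N} (hy : y ∈ (I ^ n • ⊤ : Submodule A N)) :
    ∃ x ∈ (I ^ n • ⊤ : Submodule A M), φ x = y := by
  rwa [← LinearMap.range_eq_top.mpr hφ, ← Submodule.map_top, ← Submodule.map_smul''] at hy

theorem exists_decaying_lift {N : Type*} [AddCommGroup N]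
    [Module A N] [IsHausdorff I N] {φ : M →ₗ[A] N} (hφ : Function.Surjective φ) {g : Z → N}
    (hg : g ∈ decaying I Z N) : ∃ f : Z → M, f ∈ decaying I Z M ∧ ∀ z, φ (f z) = g z := by
  classical
  have key : ∀ z, ∃ x : M, φ x = g z ∧
      ∀ n, g z ∈ (I ^ n • ⊤ : Submodule A N) → x ∈ (I ^ n • ⊤ : Submodule A M) := by
    intro z
    by_cases h : ∃ n, g z ∉ (I ^ (n + 1) • ⊤ : Submodule A N)
    · have hmem : g z ∈ (I ^ Nat.find h • ⊤ : Submodule A N) := by
        cases e : Nat.find h with
        | zero => simp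
        | succ k => exact not_not.mp (Nat.find_min h (show k < Nat.find h by omega))
      obtain ⟨x, hx, hxe⟩ := exists_lift_mem_pow I hφ hmem
      refine ⟨x, hxe, fun n hn => pow_smul_top_antitone I ?_ hx⟩
      by_contra hlt
      exact Nat.find_spec h (pow_smul_top_antitone I (by omega) hn)
    · simp only [not_exists, not_not] at h
      refine ⟨0, ?_, fun n _ => Submodule.zero_mem _⟩
      rw [map_zero, eq_zero_of_forall_mem_pow I fun n =>
        pow_smul_top_antitone I (Nat.le_succ n) (h n)]
  choose f hf using key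
  exact ⟨f, fun n => (hg n).subset fun z hz hz' => hz ((hf z).2 n hz'), fun z => (hf z).1⟩

variable (Z M) in
/-- `M ⊗ (decaying functions into A) → (Z → M)`. -/
noncomputable def tensorToPi : M ⊗[A] decaying I Z A →ₗ[A] (Z → M) :=
  (TensorProduct.piScalarRightHom A A M Z) ∘ₗ ((decaying I Z A).subtype.lTensor M)

@[simp]
theorem tensorToPi_tmul (m : M) (g : decaying I Z A) (z : Z) :
    tensorToPi I Z M (m ⊗ₜ g) z = (g : Z → A) z • m := rfl

theorem tensorToPi_mem (t : M ⊗[A] decaying I Z A) : tensorToPi I Z M t ∈ decaying I Z M := by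
  induction t using TensorProduct.induction_on with
  | zero => rw [map_zero]; exact Submodule.zero_mem _
  | tmul m g => exact smul_const_mem_decaying I g.2 (fun _ => m)
  | add x y hx hy => rw [map_add]; exact Submodule.add_mem _ hx hy

theorem tensorToPi_naturality {N : Type*} [AddCommGroup N] [Module A N] (φ : M →ₗ[A] N)
    (t : M ⊗[A] decaying I Z A) (z : Z) :
    tensorToPi I Z N (φ.rTensor _ t) z = φ (tensorToPi I Z M t z) := by
  induction t using TensorProduct.induction_on with
  | zero => simp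
  | tmul m g => simp
  | add x y hx hy => simp only [map_add, Pi.add_apply, hx, hy]

theorem tensorToPi_sum_single {r : ℕ} (d : Fin r → decaying I Z A) (z : Z) (i : Fin r) :
    tensorToPi I Z (Fin r → A) (∑ j, Pi.single j 1 ⊗ₜ[A] d j) z i = (d i : Z → A) z := by
  classical
  simp [map_sum, Finset.sum_apply, Pi.single_apply]

theorem exists_eq_sum_single {r : ℕ} (t : (Fin r → A) ⊗[A] decaying I Z A) :
    ∃ d : Fin r → decaying I Z A, t = ∑ j, Pi.single j 1 ⊗ₜ[A] d j := by
  classical
  induction t using TensorProduct.induction_on with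
  | zero => exact ⟨0, by simp⟩
  | tmul m g =>
    refine ⟨fun j => m j • g, ?_⟩
    conv_lhs => rw [pi_eq_sum_univ' m]
    rw [TensorProduct.sum_tmul]
    exact Finset.sum_congr rfl fun j _ => TensorProduct.smul_tmul _ _ _
  | add x y hx hy =>
    obtain ⟨d, rfl⟩ := hx
    obtain ⟨d', rfl⟩ := hy
    exact ⟨d + d', by simp [TensorProduct.tmul_add, Finset.sum_add_distrib]⟩

theorem tensorToPi_fin_injective (r : ℕ) :
    Function.Injective (tensorToPi I Z (Fin r → A)) := by
  rw [← LinearMap.ker_eq_bot, LinearMap.ker_eq_bot']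
  intro t ht
  obtain ⟨d, rfl⟩ := exists_eq_sum_single I t
  have : d = 0 := funext fun i => Subtype.ext <| funext fun z => by
    rw [← tensorToPi_sum_single I d z i, ht]
    rfl
  simp [this]

theorem tensorToPi_fin_surjective (r : ℕ) {f : Z → (Fin r → A)}
    (hf : f ∈ decaying I Z (Fin r → A)) :
    ∃ t, tensorToPi I Z (Fin r → A) t = f :=
  ⟨∑ j, Pi.single j 1 ⊗ₜ[A] (⟨fun z => f z j,
      comp_mem_decaying I (LinearMap.proj (φ := fun _ : Fin r => A) j) hf⟩ : decaying I Z A),
    funext fun z => funext fun i => tensorToPi_sum_single I _ z i⟩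

variable [IsNoetherianRing A] [IsAdicComplete I A]

omit [IsNoetherianRing A] in
theorem le_jacobson : I ≤ (⊥ : Ideal A).jacobson := IsAdicComplete.le_jacobson_bot I

instance isHausdorff_of_finite [Module.Finite A M] : IsHausdorff I M :=
  IsHausdorff.of_le_jacobson I M (le_jacobson I)

theorem exists_tensorToPi_eq [Module.Finite A M] {f : Z → M} (hf : f ∈ decaying I Z M) :
    ∃ t, tensorToPi I Z M t = f := by
  obtain ⟨r, φ, hφ⟩ := Module.Finite.exists_fin' A M
  obtain ⟨g, hg, hge⟩ := exists_decaying_lift I hφ hf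
  obtain ⟨t, ht⟩ := tensorToPi_fin_surjective I r hg
  exact ⟨φ.rTensor _ t, funext fun z => by rw [tensorToPi_naturality, ht, hge]⟩

theorem tensorToPi_injective [Module.Finite A M] : Function.Injective (tensorToPi I Z M) := by
  rw [← LinearMap.ker_eq_bot, LinearMap.ker_eq_bot']
  intro t ht
  obtain ⟨r, φ, hφ⟩ := Module.Finite.exists_fin' A M
  obtain ⟨s, rfl⟩ := LinearMap.rTensor_surjective _ hφ t
  have hker : ∀ z, tensorToPi I Z _ s z ∈ LinearMap.ker φ := fun z => by
    rw [LinearMap.mem_ker, ← tensorToPi_naturality, ht]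
    rfl
  haveI : Module.Finite A (LinearMap.ker φ) := Module.Finite.of_fg (IsNoetherian.noetherian _)
  obtain ⟨u, hu⟩ := exists_tensorToPi_eq I (M := LinearMap.ker φ)
    (f := fun z => ⟨_, hker z⟩)
    ((mem_decaying_submodule_iff I (LinearMap.ker φ) _).mpr (tensorToPi_mem I s))
  have hs : s = (LinearMap.ker φ).subtype.rTensor _ u :=
    tensorToPi_fin_injective I r (funext fun z => by rw [tensorToPi_naturality, hu]; rfl)
  rw [hs, ← LinearMap.rTensor_comp_apply, show φ ∘ₗ (LinearMap.ker φ).subtype = 0 from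
    LinearMap.ext fun x => x.2, LinearMap.rTensor_zero, LinearMap.zero_apply]

theorem range_tensorToPi [Module.Finite A M] :
    LinearMap.range (tensorToPi I Z M) = decaying I Z M :=
  le_antisymm (by rintro _ ⟨t, rfl⟩; exact tensorToPi_mem I t) fun _ hf =>
    exists_tensorToPi_eq I hf

theorem flat_decaying : Module.Flat A (decaying I Z A) := by
  rw [Module.Flat.iff_rTensor_injective']
  intro J
  haveI : Module.Finite A J := Module.Finite.of_fg (IsNoetherian.noetherian _)
  refine (injective_iff_map_eq_zero _).mpr fun t ht => tensorToPi_injective I ?_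
  rw [map_zero]
  funext z
  apply J.subtype_injective
  rw [← tensorToPi_naturality, ht, map_zero]
  simp

theorem mem_pow_smul_decaying_iff (n : ℕ) (f : decaying I Z A) :
    f ∈ (I ^ n • ⊤ : Submodule A (decaying I Z A)) ↔ ∀ z, (f : Z → A) z ∈ I ^ n := by
  refine ⟨fun h z => by simpa using apply_mem_of_mem I h z, fun h => ?_⟩
  haveI : Module.Finite A (I ^ n : Ideal A) := Module.Finite.of_fg (IsNoetherian.noetherian _)
  obtain ⟨t, ht⟩ := exists_tensorToPi_eq I (M := (I ^ n : Ideal A)) (f := fun z => ⟨_, h z⟩)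
    ((mem_decaying_submodule_iff I _ _).mpr f.2)
  let μ : (I ^ n : Ideal A) ⊗[A] decaying I Z A →ₗ[A] decaying I Z A :=
    TensorProduct.lift ((LinearMap.lsmul A (decaying I Z A)) ∘ₗ (I ^ n : Ideal A).subtype)
  have hμ : ∀ s, μ s ∈ (I ^ n • ⊤ : Submodule A (decaying I Z A)) ∧
      ∀ z, (μ s : Z → A) z = ((tensorToPi I Z (I ^ n : Ideal A) s z : (I ^ n : Ideal A)) : A) := by
    intro s
    induction s using TensorProduct.induction_on with
    | zero => exact ⟨by simp, fun z => by simp⟩
    | tmul a g =>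
      exact ⟨by simpa [μ] using Submodule.smul_mem_smul a.2 Submodule.mem_top,
        fun z => by simp [μ, mul_comm]⟩
    | add x y hx hy =>
      rw [map_add, map_add]
      exact ⟨Submodule.add_mem _ hx.1 hy.1, fun z => by simp [hx.2 z, hy.2 z]⟩
  have : f = μ t := Subtype.ext <| funext fun z => by rw [(hμ t).2 z, ht]
  rw [this]
  exact (hμ t).1

theorem reduction_surjective (n : ℕ) (g : Z →₀ A ⧸ I ^ n) :
    ∃ f : decaying I Z A, ∀ z, Ideal.Quotient.mk (I ^ n) ((f : Z → A) z) = g z := by
  classical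
  choose l hl using fun x : A ⧸ I ^ n => Ideal.Quotient.mk_surjective x
  refine ⟨⟨_, finsupp_mem_decaying I (Finsupp.onFinset g.support
    (fun z => if g z = 0 then 0 else l (g z)) fun z hz => ?_)⟩, fun z => ?_⟩
  · rw [Finsupp.mem_support_iff]
    intro h
    exact hz (by rw [if_pos h])
  · show Ideal.Quotient.mk (I ^ n) (if g z = 0 then 0 else l (g z)) = g z
    split_ifs with h
    · rw [h, map_zero]
    · exact hl _

end L02.CAlg.AdicDecay
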