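import Groth.Agent.L02.CAlg.AdicDecay.Sum

/-!
Decaying functions as the completion of finitely supported functions.
-/

set_option autoImplicit false

open Submodule W4c5adicflatcompl

namespace L02.CAlg.AdicDecay

variable {A : Type*} [CommRing A] (I : Ideal A) (Z : Type*)
variable (M : Type*) [AddCommGroup M] [Module A M]

/-- Coordinates of an element of the completion of `Z →₀ M`. -/
noncomputable def coords : AdicCompletion I (Z →₀ M) →ₗ[A] (Z → AdicCompletion I M) :=
  LinearMap.pi fun z : Z =>
    (AdicCompletion.map I (Finsupp.lapply (M := M) (R := A) z)).restrictScalars A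

variable {Z M}

theorem coords_apply (x : AdicCompletion I (Z →₀ M)) (z : Z) :
    coords I Z M x z = AdicCompletion.map I (Finsupp.lapply (M := M) (R := A) z) x := rfl

theorem coords_val {x : AdicCompletion I (Z →₀ M)} {n : ℕ} {c : Z →₀ M}
    (h : x.val n = Submodule.Quotient.mk c) (z : Z) :
    (coords I Z M x z).val n = Submodule.Quotient.mk (c z) := by
  rw [coords_apply, AdicCompletion.map_val_apply, h]
  rfl

theorem coords_of (c : Z →₀ M) (z : Z) :
    coords I Z M (AdicCompletion.of I (Z →₀ M) c) z = AdicCompletion.of I M (c z) := by
  rw [coords_apply, AdicCompletion.map_of]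
  rfl

theorem finsupp_mem_pow_smul_top {n : ℕ} {c : Z →₀ M}
    (h : ∀ z, c z ∈ (I ^ n • ⊤ : Submodule A M)) : c ∈ (I ^ n • ⊤ : Submodule A (Z →₀ M)) := by
  classical
  rw [← Finsupp.sum_single c]
  exact Submodule.sum_mem _ fun z _ => map_mem_pow_smul_top I (Finsupp.lsingle z) (h z)

theorem coords_injective : Function.Injective (coords I Z M) := by
  rw [← LinearMap.ker_eq_bot, LinearMap.ker_eq_bot']
  intro x hx
  refine AdicCompletion.ext fun n => ?_
  obtain ⟨c, hc⟩ := Submodule.Quotient.mk_surjective _ (x.val n)
  rw [AdicCompletion.val_zero_apply, ← hc, Submodule.Quotient.mk_eq_zero]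
  refine finsupp_mem_pow_smul_top I fun z => ?_
  rw [← Submodule.Quotient.mk_eq_zero, ← coords_val I hc.symm z, hx]
  rfl

theorem range_coords [IsPrecomplete I (AdicCompletion I M)] :
    LinearMap.range (coords I Z M) = decaying I Z (AdicCompletion I M) := by
  classical
  refine le_antisymm ?_ fun f hf => ?_
  · rintro _ ⟨x, rfl⟩ n
    obtain ⟨c, hc⟩ := Submodule.Quotient.mk_surjective _ (x.val n)
    refine c.support.finite_toSet.subset fun z hz => ?_
    by_contra h
    refine hz (mem_pow_smul_top_of_val_eq_zero I ?_)
    rw [coords_val I hc.symm z, Finsupp.notMem_support_iff.mp (by simpa using h),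
      Submodule.Quotient.mk_zero]
  · choose y hy using fun (n : ℕ) (z : Z) => Submodule.Quotient.mk_surjective _ ((f z).val n)
    let c : ℕ → (Z →₀ M) := fun n => ∑ z ∈ (hf n).toFinset, Finsupp.single z (y n z)
    have hc : ∀ n z, Submodule.Quotient.mk (p := (I ^ n • ⊤ : Submodule A M)) (c n z) =
        (f z).val n := by
      intro n z
      simp only [c, Finsupp.coe_finsetSum, Finset.sum_apply, Finsupp.single_apply,
        Finset.sum_ite_eq']
      by_cases hz : z ∈ (hf n).toFinset
      · rw [if_pos hz, hy]
      · rw [if_neg hz, Submodule.Quotient.mk_zero]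
        simp only [Set.Finite.mem_toFinset, Set.mem_ofPred_eq, not_not] at hz
        exact (val_eq_zero_of_mem I hz).symm
    let x : AdicCompletion I (Z →₀ M) := ⟨fun n => Submodule.Quotient.mk (c n), fun {m n} hmn => by
      show Submodule.Quotient.mk (c n) = Submodule.Quotient.mk (c m)
      rw [Submodule.Quotient.eq]
      refine finsupp_mem_pow_smul_top I fun z => ?_
      rw [Finsupp.sub_apply, ← Submodule.Quotient.eq, hc m z, ← (f z).property hmn, ← hc n z]
      rfl⟩
    exact ⟨x, funext fun z => AdicCompletion.ext fun n => (coords_val I rfl z).trans (hc n z)⟩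

variable (Z M) in
/-- The completion of `Z →₀ M` is the module of decaying functions in `M^`. -/
noncomputable def completionEquiv [IsPrecomplete I (AdicCompletion I M)] :
    AdicCompletion I (Z →₀ M) ≃ₗ[A] decaying I Z (AdicCompletion I M) :=
  (LinearEquiv.ofInjective _ (coords_injective I)).trans (LinearEquiv.ofEq _ _ (range_coords I))

theorem completionEquiv_apply [IsPrecomplete I (AdicCompletion I M)]
    (x : AdicCompletion I (Z →₀ M)) (z : Z) :
    (completionEquiv I Z M x : Z → AdicCompletion I M) z = coords I Z M x z := rfl

theorem isAdicComplete_decaying_completion (hI : I.FG) :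
    IsAdicComplete I (decaying I Z (AdicCompletion I M)) :=
  haveI := AdicCompletion.isAdicComplete (M := M) hI
  haveI := AdicCompletion.isAdicComplete (M := Z →₀ M) hI
  isAdicComplete_of_linearEquiv I (completionEquiv I Z M)

variable (Z) in
/-- For complete `A`, decaying functions into `A` and into its completion agree. -/
noncomputable def decayingCompletionEquiv [IsAdicComplete I A] :
    decaying I Z A ≃ₗ[A] decaying I Z (AdicCompletion I A) :=
  decayingCongr I Z (AdicCompletion.ofLinearEquiv I A)

theorem isAdicComplete_decaying (hI : I.FG) [IsAdicComplete I M] :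
    IsAdicComplete I (decaying I Z M) :=
  haveI := isAdicComplete_decaying_completion (Z := Z) (M := M) I hI
  isAdicComplete_of_linearEquiv I (decayingCongr I Z (AdicCompletion.ofLinearEquiv I M)).symm

theorem completionEquiv_of_single [DecidableEq Z] [IsPrecomplete I (AdicCompletion I M)] (z : Z)
    (m : M) : completionEquiv I Z M (AdicCompletion.of I _ (Finsupp.single z m)) =
      single I z (AdicCompletion.of I M m) := by
  refine Subtype.ext <| funext fun w => ?_
  rw [completionEquiv_apply, coords_of, coe_single, Finsupp.single_apply, Pi.single_apply]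
  split_ifs with h1 h2 h2
  · rfl
  · exact absurd h1.symm h2
  · exact absurd h2.symm h1
  · simp

theorem existsUnique_of_single [DecidableEq Z] (hI : I.FG) {N : Type*} [AddCommGroup N]
    [Module A N] [IsAdicComplete I N] (f : Z → N) :
    ∃! φ : decaying I Z (AdicCompletion I A) →ₗ[A] N,
      ∀ z, φ (single I z (1 : AdicCompletion I A)) = f z := by
  haveI := AdicCompletion.isAdicComplete (M := A) hI
  haveI := AdicCompletion.isAdicComplete (M := Z →₀ A) hI
  have h1 : ∀ z, single I z (1 : AdicCompletion I A) =
      completionEquiv I Z A (AdicCompletion.of I _ (Finsupp.single z 1)) := fun z => by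
    rw [completionEquiv_of_single]
    rfl
  refine ⟨extend I (Finsupp.linearCombination A f) ∘ₗ (completionEquiv I Z A).symm.toLinearMap,
    fun z => ?_, fun φ hφ => ?_⟩
  · rw [h1, LinearMap.comp_apply, LinearEquiv.coe_coe, LinearEquiv.symm_apply_apply, extend_of,
      Finsupp.linearCombination_single, one_smul]
  · have key : φ ∘ₗ (completionEquiv I Z A).toLinearMap =
        extend I (Finsupp.linearCombination A f) := by
      refine completion_hom_ext I fun c => ?_
      rw [extend_of]
      induction c using Finsupp.induction_linear with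
      | zero => simp
      | add c d hc hd => simp only [map_add, hc, hd]
      | single z a =>
        rw [← mul_one a, ← smul_eq_mul, ← Finsupp.smul_single, map_smul, map_smul, map_smul,
          LinearMap.comp_apply, LinearEquiv.coe_coe, ← h1, hφ, Finsupp.linearCombination_single,
          one_smul]
    refine LinearMap.ext fun g => ?_
    rw [← key, LinearMap.comp_apply, LinearMap.comp_apply, LinearEquiv.coe_coe,
      LinearEquiv.coe_coe, LinearEquiv.apply_symm_apply]

end L02.CAlg.AdicDecay
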