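import Groth.Agent.L02.CAlg.AdicDecay.Finsupp

/-!
Adically projective modules are retracts of adically free ones.
-/

set_option autoImplicit false

universe u

open Submodule W4c5adicflatcompl

namespace L02.CAlg.AdicDecay

variable {A : Type u} [CommRing A] (I : Ideal A)

theorem isAdicProjective_iff_exists_split (hI : I.FG) (P : Type u) [AddCommGroup P] [Module A P] :
    IsAdicProjective I P ↔
      ∃ (Z : Type u) (i : P →ₗ[A] decaying I Z (AdicCompletion I A))
        (r : decaying I Z (AdicCompletion I A) →ₗ[A] P), r ∘ₗ i = LinearMap.id := by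
  classical
  constructor
  · rintro ⟨hP, hlift⟩
    haveI := hP
    obtain ⟨r, hr, -⟩ := existsUnique_of_single (Z := P) I hI (id : P → P)
    obtain ⟨i, hi⟩ := hlift (decaying I P (AdicCompletion I A)) P
      (isAdicComplete_decaying_completion I hI) hP r
      (fun p => ⟨single I p (1 : AdicCompletion I A), hr p⟩) LinearMap.id
    exact ⟨P, i, r, hi⟩
  · rintro ⟨Z, i, r, h⟩
    haveI := isAdicComplete_decaying_completion (Z := Z) (M := A) I hI
    refine ⟨isAdicComplete_of_retract I i r h, fun M N _ _ _ _ hM hN φ hφ ψ => ?_⟩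
    haveI := hM
    haveI := hN
    choose g hg using fun z => hφ (ψ (r (single I z (1 : AdicCompletion I A))))
    obtain ⟨θ, hθ, -⟩ := existsUnique_of_single (Z := Z) I hI g
    refine ⟨θ ∘ₗ i, ?_⟩
    have key : φ ∘ₗ θ = ψ ∘ₗ r :=
      (existsUnique_of_single (Z := Z) I hI
        (fun z => ψ (r (single I z (1 : AdicCompletion I A))))).unique
        (fun z => by rw [LinearMap.comp_apply, hθ, hg]) (fun z => rfl)
    rw [← LinearMap.comp_assoc, key, LinearMap.comp_assoc, h, LinearMap.comp_id]

end L02.CAlg.AdicDecay
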