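import Groth.Prelude.Def_W4c5adicflatcomplDec
import Groth.Agent.L02.CAlg.AdicDecay.Completion

/-!
Decaying functions: separatedness, functoriality, adic sums, successive approximation.
-/

set_option autoImplicit false

open Submodule W4c5adicflatcompl

namespace L02.CAlg.AdicDecay

variable {A : Type*} [CommRing A] (I : Ideal A) {Z : Type*}
variable {M : Type*} [AddCommGroup M] [Module A M]
variable {N : Type*} [AddCommGroup N] [Module A N]

variable (Z M) in
/-- Evaluation of decaying functions at a point. -/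
def evalLin (z : Z) : decaying I Z M →ₗ[A] M :=
  (LinearMap.proj z).comp (decaying I Z M).subtype

@[simp]
theorem evalLin_apply (z : Z) (f : decaying I Z M) : evalLin I Z M z f = (f : Z → M) z := rfl

theorem apply_mem_of_mem {n : ℕ} {f : decaying I Z M}
    (h : f ∈ (I ^ n • ⊤ : Submodule A (decaying I Z M))) (z : Z) :
    (f : Z → M) z ∈ (I ^ n • ⊤ : Submodule A M) :=
  map_mem_pow_smul_top I (evalLin I Z M z) h

instance isHausdorff_decaying [IsHausdorff I M] : IsHausdorff I (decaying I Z M) :=
  ⟨fun f hf => Subtype.ext <| funext fun z =>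
    eq_zero_of_forall_mem_pow I fun n => apply_mem_of_mem I (SModEq.zero.mp (hf n)) z⟩

theorem comp_mem_decaying (φ : M →ₗ[A] N) {f : Z → M} (hf : f ∈ decaying I Z M) :
    (fun z => φ (f z)) ∈ decaying I Z N := by
  intro n
  refine (hf n).subset fun z hz => ?_
  intro h
  exact hz (map_mem_pow_smul_top I φ h)

theorem smul_const_mem_decaying {g : Z → A} (hg : g ∈ decaying I Z A) (f : Z → M) :
    (fun z => g z • f z) ∈ decaying I Z M := by
  intro n
  refine (hg n).subset fun z hz => ?_
  intro h
  refine hz (Submodule.smul_mem_smul ?_ Submodule.mem_top)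
  simpa using h

theorem finsupp_mem_decaying (c : Z →₀ M) : (c : Z → M) ∈ decaying I Z M := fun n =>
  c.support.finite_toSet.subset fun z hz => by
    by_contra h
    exact hz (by rw [Finsupp.notMem_support_iff.mp (by simpa using h)]; exact Submodule.zero_mem _)

variable (Z) in
/-- Functoriality of decaying functions. -/
def mapDecaying (φ : M →ₗ[A] N) : decaying I Z M →ₗ[A] decaying I Z N where
  toFun f := ⟨fun z => φ ((f : Z → M) z), comp_mem_decaying I φ f.2⟩
  map_add' f g := Subtype.ext <| funext fun z => φ.map_add _ _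
  map_smul' a f := Subtype.ext <| funext fun z => φ.map_smul _ _

@[simp]
theorem mapDecaying_apply (φ : M →ₗ[A] N) (f : decaying I Z M) (z : Z) :
    (mapDecaying I Z φ f : Z → N) z = φ ((f : Z → M) z) := rfl

variable (Z) in
/-- Decaying functions with values in isomorphic modules. -/
def decayingCongr (e : M ≃ₗ[A] N) : decaying I Z M ≃ₗ[A] decaying I Z N :=
  LinearEquiv.ofLinear (mapDecaying I Z e.toLinearMap) (mapDecaying I Z e.symm.toLinearMap)
    (LinearMap.ext fun f => Subtype.ext <| funext fun z => e.apply_symm_apply _)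
    (LinearMap.ext fun f => Subtype.ext <| funext fun z => e.symm_apply_apply _)

@[simp]
theorem decayingCongr_apply (e : M ≃ₗ[A] N) (f : decaying I Z M) (z : Z) :
    (decayingCongr I Z e f : Z → N) z = e ((f : Z → M) z) := rfl

/-- `m` is the adic sum of the family `f`. -/
def IsAdicSum (f : Z → M) (m : M) : Prop :=
  ∀ n : ℕ, ∃ S : Finset Z, (∀ z, z ∉ S → f z ∈ (I ^ n • ⊤ : Submodule A M)) ∧
    m - (∑ z ∈ S, f z) ∈ (I ^ n • ⊤ : Submodule A M)

theorem sub_sum_mem_of_subset {f : Z → M} {S T : Finset Z} {n : ℕ} (hST : S ⊆ T)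
    (hS : ∀ z, z ∉ S → f z ∈ (I ^ n • ⊤ : Submodule A M)) :
    (∑ z ∈ T, f z) - (∑ z ∈ S, f z) ∈ (I ^ n • ⊤ : Submodule A M) := by
  classical
  rw [← Finset.sum_sdiff hST, add_sub_cancel_right]
  exact Submodule.sum_mem _ fun z hz => hS z (Finset.mem_sdiff.mp hz).2

theorem sum_sub_sum_mem {f : Z → M} {S T : Finset Z} {n : ℕ}
    (hS : ∀ z, z ∉ S → f z ∈ (I ^ n • ⊤ : Submodule A M))
    (hT : ∀ z, z ∉ T → f z ∈ (I ^ n • ⊤ : Submodule A M)) :
    (∑ z ∈ T, f z) - (∑ z ∈ S, f z) ∈ (I ^ n • ⊤ : Submodule A M) := by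
  classical
  have := Submodule.sub_mem _ (sub_sum_mem_of_subset I (Finset.subset_union_left (s₂ := T)) hS)
    (sub_sum_mem_of_subset I (Finset.subset_union_right (s₁ := S)) hT)
  simpa using this

variable {I} in
theorem IsAdicSum.sub_mem {f : Z → M} {m : M} (h : IsAdicSum I f m) {S : Finset Z} {n : ℕ}
    (hS : ∀ z, z ∉ S → f z ∈ (I ^ n • ⊤ : Submodule A M)) :
    m - (∑ z ∈ S, f z) ∈ (I ^ n • ⊤ : Submodule A M) := by
  obtain ⟨T, hT, hm⟩ := h n
  simpa using Submodule.add_mem _ hm (sum_sub_sum_mem I hS hT)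

variable {I} in
theorem IsAdicSum.unique [IsHausdorff I M] {f : Z → M} {m m' : M} (h : IsAdicSum I f m)
    (h' : IsAdicSum I f m') : m = m' := by
  refine eq_of_forall_sub_mem_pow I fun n => ?_
  obtain ⟨S, hS, hm⟩ := h n
  simpa using Submodule.sub_mem _ hm (h'.sub_mem hS)

variable {I} in
theorem IsAdicSum.mem_decaying {f : Z → M} {m : M} (h : IsAdicSum I f m) :
    f ∈ decaying I Z M := fun n => by
  obtain ⟨S, hS, -⟩ := h n
  exact S.finite_toSet.subset fun z hz => by
    by_contra h'
    exact hz (hS z (by simpa using h'))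

theorem exists_isAdicSum [IsPrecomplete I M] {f : Z → M} (hf : f ∈ decaying I Z M) :
    ∃ m, IsAdicSum I f m := by
  have hS : ∀ n, ∀ z, z ∉ (hf n).toFinset → f z ∈ (I ^ n • ⊤ : Submodule A M) := fun n z hz => by
    by_contra h
    exact hz ((hf n).mem_toFinset.mpr h)
  obtain ⟨L, hL⟩ := exists_limit I (fun n => ∑ z ∈ (hf n).toFinset, f z) (fun n =>
    sum_sub_sum_mem I (hS n) (fun z hz => pow_smul_top_antitone I (Nat.le_succ n) (hS (n + 1) z hz)))
  exact ⟨L, fun n => ⟨_, hS n, hL n⟩⟩

variable {I} in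
theorem IsAdicSum.add {f g : Z → M} {m m' : M} (h : IsAdicSum I f m) (h' : IsAdicSum I g m') :
    IsAdicSum I (f + g) (m + m') := fun n => by
  classical
  obtain ⟨S, hS, -⟩ := h n
  obtain ⟨T, hT, -⟩ := h' n
  refine ⟨S ∪ T, fun z hz => ?_, ?_⟩
  · rw [Finset.mem_union, not_or] at hz
    exact Submodule.add_mem _ (hS z hz.1) (hT z hz.2)
  · rw [show (∑ z ∈ S ∪ T, (f + g) z) = (∑ z ∈ S ∪ T, f z) + ∑ z ∈ S ∪ T, g z from
      Finset.sum_add_distrib, add_sub_add_comm]
    exact Submodule.add_mem _
      (h.sub_mem fun z hz => hS z fun hz' => hz (Finset.mem_union_left _ hz'))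
      (h'.sub_mem fun z hz => hT z fun hz' => hz (Finset.mem_union_right _ hz'))

variable {I} in
theorem IsAdicSum.smul {f : Z → M} {m : M} (h : IsAdicSum I f m) (a : A) :
    IsAdicSum I (a • f) (a • m) := fun n => by
  obtain ⟨S, hS, hm⟩ := h n
  refine ⟨S, fun z hz => Submodule.smul_mem _ a (hS z hz), ?_⟩
  simpa [Finset.smul_sum, smul_sub] using Submodule.smul_mem _ a hm

variable (Z M) in
/-- The adic sum as a linear map. -/
noncomputable def adicSum [IsAdicComplete I M] : decaying I Z M →ₗ[A] M where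
  toFun f := (exists_isAdicSum I f.2).choose
  map_add' f g := (exists_isAdicSum I (f + g).2).choose_spec.unique
    ((exists_isAdicSum I f.2).choose_spec.add (exists_isAdicSum I g.2).choose_spec)
  map_smul' a f := (exists_isAdicSum I (a • f).2).choose_spec.unique
    ((exists_isAdicSum I f.2).choose_spec.smul a)

theorem isAdicSum_adicSum [IsAdicComplete I M] (f : decaying I Z M) :
    IsAdicSum I (f : Z → M) (adicSum I Z M f) :=
  (exists_isAdicSum I f.2).choose_spec

/-- Multiplication of decaying functions with values in `A` by a family in `M`. -/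
def smulFamily (f : Z → M) : decaying I Z A →ₗ[A] decaying I Z M where
  toFun g := ⟨fun z => (g : Z → A) z • f z, smul_const_mem_decaying I g.2 f⟩
  map_add' g g' := Subtype.ext <| funext fun z => add_smul _ _ _
  map_smul' a g := Subtype.ext <| funext fun z => smul_assoc a ((g : Z → A) z) (f z)

/-- The map `g ↦ ∑ g z • f z`. -/
noncomputable def sumMap [IsAdicComplete I M] (f : Z → M) : decaying I Z A →ₗ[A] M :=
  adicSum I Z M ∘ₗ smulFamily I f

theorem isAdicSum_sumMap [IsAdicComplete I M] (f : Z → M) (g : decaying I Z A) :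
    IsAdicSum I (fun z => (g : Z → A) z • f z) (sumMap I f g) :=
  isAdicSum_adicSum I (smulFamily I f g)

theorem sumMap_single [IsAdicComplete I M] [DecidableEq Z] (f : Z → M) (z : Z) (a : A) :
    sumMap I f (single I z a) = a • f z :=
  (isAdicSum_sumMap I f (single I z a)).unique fun n => ⟨{z}, fun z' hz' => by
    rw [Finset.mem_singleton] at hz'
    simp [Pi.single_eq_of_ne hz'], by simp⟩

theorem exists_mem_of_mem_pow_smul_span {m : Z → M} {n : ℕ} {x : M}
    (h : x ∈ (I ^ n • Submodule.span A (Set.range m) : Submodule A M)) :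
    ∃ c : Z →₀ A, (∀ z, c z ∈ I ^ n) ∧ (c.sum fun z a => a • m z) = x := by
  rw [Submodule.mem_ideal_smul_span_iff_exists_sum] at h
  obtain ⟨a, ha, hsum⟩ := h
  exact ⟨a, ha, hsum⟩

theorem span_sup_eq_top_iff [IsAdicComplete I A] [IsHausdorff I M] (m : Z → M) :
    Submodule.span A (Set.range m) ⊔ I • ⊤ = ⊤ ↔
      ∀ x : M, ∃ g : Z → A, g ∈ decaying I Z A ∧ IsAdicSum I (fun z => g z • m z) x := by
  classical
  constructor
  · intro h x
    have step : ∀ (n : ℕ) (y : M), ∃ c : Z →₀ A, y ∈ (I ^ n • ⊤ : Submodule A M) →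
        (∀ z, c z ∈ I ^ n) ∧ y - (c.sum fun z a => a • m z) ∈ (I ^ (n + 1) • ⊤ : Submodule A M) := by
      intro n y
      by_cases hy : y ∈ (I ^ n • ⊤ : Submodule A M)
      · have hy' : y ∈ (I ^ n • Submodule.span A (Set.range m) ⊔ I ^ (n + 1) • ⊤ : Submodule A M) := by
          rwa [pow_succ, Submodule.mul_smul, ← Submodule.smul_sup, h]
        obtain ⟨u, hu, v, hv, huv⟩ := Submodule.mem_sup.mp hy'
        obtain ⟨c, hc, hcu⟩ := exists_mem_of_mem_pow_smul_span I hu
        exact ⟨c, fun _ => ⟨hc, by rw [hcu, ← huv, add_sub_cancel_left]; exact hv⟩⟩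
      · exact ⟨0, fun h => absurd h hy⟩
    choose c hc using step
    let y : ℕ → M := fun n => Nat.rec (motive := fun _ => M) x
      (fun i yi => yi - (c i yi).sum fun z a => a • m z) n
    have hy : ∀ n, y n ∈ (I ^ n • ⊤ : Submodule A M) := by
      intro n
      induction n with
      | zero => simp [y]
      | succ n ih => exact (hc n (y n) ih).2
    let d : ℕ → (Z →₀ A) := fun n => c n (y n)
    have hd : ∀ n z, d n z ∈ I ^ n := fun n => (hc n (y n) (hy n)).1
    have hyn : ∀ n, y n = x - ∑ i ∈ Finset.range n, (d i).sum fun z a => a • m z := by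
      intro n
      induction n with
      | zero => simp [y]
      | succ n ih =>
        rw [Finset.sum_range_succ, ← sub_sub, ← ih]
    have hlim : ∀ z, ∃ L : A, ∀ n,
        L - (∑ i ∈ Finset.range n, d i z) ∈ (I ^ n • ⊤ : Submodule A A) := fun z =>
      exists_limit I (fun n => ∑ i ∈ Finset.range n, d i z) (fun n => by
        simp [Finset.sum_range_succ, hd n z])
    choose g hg using hlim
    have hgS : ∀ n z, z ∉ (Finset.range n).biUnion (fun i => (d i).support) →
        g z ∈ (I ^ n • ⊤ : Submodule A A) := by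
      intro n z hz
      simp only [Finset.mem_biUnion, Finsupp.mem_support_iff, not_exists, not_and, not_not] at hz
      simpa [Finset.sum_eq_zero hz] using hg z n
    have hgdec : g ∈ decaying I Z A := fun n =>
      ((Finset.range n).biUnion fun i => (d i).support).finite_toSet.subset fun z hz => by
        by_contra h'
        exact hz (hgS n z (by simpa using h'))
    refine ⟨g, hgdec, fun n => ⟨(Finset.range n).biUnion (fun i => (d i).support), fun z hz => ?_,
      ?_⟩⟩
    · exact Submodule.smul_mem_smul (by simpa using hgS n z hz) Submodule.mem_top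
    · set S := (Finset.range n).biUnion (fun i => (d i).support)
      have e : (∑ i ∈ Finset.range n, (d i).sum fun z a => a • m z) =
          ∑ z ∈ S, (∑ i ∈ Finset.range n, d i z) • m z := by
        simp_rw [Finset.sum_smul]
        rw [Finset.sum_comm]
        refine Finset.sum_congr rfl fun i hi => ?_
        exact Finsupp.sum_of_support_subset _
          (Finset.subset_biUnion_of_mem (fun i => (d i).support) hi) _ (fun z _ => zero_smul _ _)
      have e2 : x - (∑ z ∈ S, g z • m z) =
          y n - ∑ z ∈ S, (g z - ∑ i ∈ Finset.range n, d i z) • m z := by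
        rw [hyn n, e]
        simp only [sub_smul, Finset.sum_sub_distrib]
        abel
      rw [e2]
      refine Submodule.sub_mem _ (hy n) (Submodule.sum_mem _ fun z _ => ?_)
      exact Submodule.smul_mem_smul (by simpa using hg z n) Submodule.mem_top
  · intro h
    refine eq_top_iff.mpr fun x _ => ?_
    obtain ⟨g, -, hx⟩ := h x
    obtain ⟨S, -, hxS⟩ := hx 1
    rw [pow_one] at hxS
    refine Submodule.mem_sup.mpr ⟨_, Submodule.sum_mem _ fun z (_ : z ∈ S) =>
      Submodule.smul_mem _ (g z) (Submodule.subset_span ⟨z, rfl⟩), _, hxS, ?_⟩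
    abel

end L02.CAlg.AdicDecay
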