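import Groth.Agent.L02.CAlg.AdicDecay.Finite
import Mathlib.RingTheory.LocalRing.Module
import Mathlib.LinearAlgebra.Basis.VectorSpace
import Mathlib.RingTheory.Flat.Stability

/-!
Adic systems of flat modules over a complete Noetherian local ring have adically free limits.
-/

set_option autoImplicit false

universe u

open Submodule W4c5adicflatcompl IsLocalRing TensorProduct

namespace L02.CAlg.AdicDecay

variable {A : Type u} [CommRing A]

theorem smul_eq_zero_of_mem {J : Ideal A} {M : Type*} [AddCommGroup M] [Module A M]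
    [Module (A ⧸ J) M] [IsScalarTower A (A ⧸ J) M] {a : A} (ha : a ∈ J) (x : M) : a • x = 0 := by
  rw [← algebraMap_smul (A ⧸ J) a x, Ideal.Quotient.algebraMap_eq,
    Ideal.Quotient.eq_zero_iff_mem.mpr ha, zero_smul]

theorem smul_top_eq_bot (J : Ideal A) (M : Type*) [AddCommGroup M] [Module A M]
    [Module (A ⧸ J) M] [IsScalarTower A (A ⧸ J) M] : (J • ⊤ : Submodule A M) = ⊥ :=
  eq_bot_iff.mpr <| Submodule.smul_le.mpr fun a ha x _ =>
    (Submodule.mem_bot A).mpr (smul_eq_zero_of_mem ha x)

theorem isAdicComplete_of_pow_smul_eq_bot (I : Ideal A) {M : Type*} [AddCommGroup M] [Module A M]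
    {n : ℕ} (h : (I ^ n • ⊤ : Submodule A M) = ⊥) : IsAdicComplete I M := by
  refine { haus' := fun x hx => ?_, prec' := fun f hf => ⟨f n, fun m => ?_⟩ }
  · have := SModEq.zero.mp (hx n)
    rwa [h, Submodule.mem_bot] at this
  · by_cases hmn : m ≤ n
    · exact hf hmn
    · have h' := SModEq.sub_mem.mp (hf (Nat.le_of_not_le hmn))
      rw [h, Submodule.mem_bot, sub_eq_zero] at h'
      rw [h']

theorem exists_eq_linearCombination_of_mod (I : Ideal A) {M : Type*} [AddCommGroup M] [Module A M]
    {Z : Type*} (v : Z → M) {n : ℕ} (h : (I ^ n • ⊤ : Submodule A M) = ⊥)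
    (hs : Submodule.span A (Set.range v) ⊔ I • ⊤ = ⊤) (x : M) :
    ∃ c : Z →₀ A, Finsupp.linearCombination A v c = x := by
  have key : ∀ j, Submodule.span A (Set.range v) ⊔ I ^ j • ⊤ = ⊤ := by
    intro j
    induction j with
    | zero => simp
    | succ j ih =>
      rw [eq_top_iff]
      calc (⊤ : Submodule A M) = Submodule.span A (Set.range v) ⊔ I ^ j • ⊤ := ih.symm
        _ ≤ Submodule.span A (Set.range v) ⊔
            I ^ j • (Submodule.span A (Set.range v) ⊔ I • ⊤) := by rw [hs]
        _ ≤ _ := by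
          rw [Submodule.smul_sup, ← Submodule.mul_smul, ← pow_succ]
          exact sup_le le_sup_left (sup_le (le_trans Submodule.smul_le_right le_sup_left) le_sup_right)
  have hx : x ∈ Submodule.span A (Set.range v) := by
    have := key n
    rw [h, sup_bot_eq] at this
    rw [this]
    exact Submodule.mem_top
  rwa [← Finsupp.range_linearCombination] at hx

theorem coeff_mem_of_linearCombination_eq_zero {m J : Ideal A} [IsLocalRing A]
    (hm : m = maximalIdeal A) (hJ : J ≤ m) {M : Type u} [AddCommGroup M] [Module A M]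
    [Module (A ⧸ J) M] [IsScalarTower A (A ⧸ J) M] [Module.Flat (A ⧸ J) M] {Z : Type u} (v : Z → M)
    (hv : ∀ c : Z →₀ A, Finsupp.linearCombination A v c ∈ (m • ⊤ : Submodule A M) → ∀ z, c z ∈ m)
    {c : Z →₀ A} (hc : Finsupp.linearCombination A v c = 0) (z : Z) : c z ∈ J := by
  classical
  subst hm
  haveI : Nontrivial (A ⧸ J) := Ideal.Quotient.nontrivial_iff.mpr fun h =>
    (maximalIdeal.isMaximal A).ne_top (top_le_iff.mp (h ▸ hJ))
  haveI : IsLocalRing (A ⧸ J) :=
    IsLocalRing.of_surjective' (Ideal.Quotient.mk J) Ideal.Quotient.mk_surjective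
  have hmax : maximalIdeal (A ⧸ J) = (maximalIdeal A).map (algebraMap A (A ⧸ J)) :=
    (IsLocalRing.map_maximalIdeal_of_surjective (Ideal.Quotient.mk J)
      Ideal.Quotient.mk_surjective).symm
  have key : LinearIndependent (A ⧸ J) v := by
    refine Module.IsLocalRing.linearIndependent_of_flat v ?_
    rw [linearIndependent_iff']
    intro s g hg i hi
    choose r hr using fun z => ((Ideal.Quotient.mk_surjective.comp Ideal.Quotient.mk_surjective :
      Function.Surjective ((Ideal.Quotient.mk (maximalIdeal (A ⧸ J))) ∘ Ideal.Quotient.mk J))) (g z)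
    have h1 : (∑ z ∈ s, Ideal.Quotient.mk J (r z) • v z) ∈
        LinearMap.ker (TensorProduct.mk (A ⧸ J) (ResidueField (A ⧸ J)) M 1) := by
      rw [LinearMap.mem_ker, map_sum, ← hg]
      refine Finset.sum_congr rfl fun z _ => ?_
      rw [map_smul, ← hr z, Function.comp_apply, ← algebraMap_smul (ResidueField (A ⧸ J))
        (Ideal.Quotient.mk J (r z)) ((TensorProduct.mk (A ⧸ J) (ResidueField (A ⧸ J)) M 1) (v z))]
      rfl
    have h2 : (∑ z ∈ s, Ideal.Quotient.mk J (r z) • v z) ∈
        (maximalIdeal (A ⧸ J) • ⊤ : Submodule (A ⧸ J) M) := by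
      rwa [← LinearMap.ker_tensorProductMk]
    have h3 : (∑ z ∈ s, r z • v z) ∈ (maximalIdeal A • ⊤ : Submodule A M) := by
      have h4 : (∑ z ∈ s, r z • v z) = ∑ z ∈ s, Ideal.Quotient.mk J (r z) • v z :=
        Finset.sum_congr rfl fun z _ => (algebraMap_smul (A ⧸ J) (r z) (v z)).symm
      rw [h4]
      rw [hmax, ← Submodule.restrictScalars_mem A, Submodule.restrictScalars_map_smul_eq,
        Submodule.restrictScalars_top] at h2
      exact h2
    have h5 := hv (∑ z ∈ s, Finsupp.single z (r z))
      (by simpa [map_sum, Finsupp.linearCombination_single] using h3) i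
    have h6 : (∑ z ∈ s, Finsupp.single z (r z)) i = r i := by
      simp [Finsupp.single_apply, hi]
    rw [h6] at h5
    rw [← hr i, Function.comp_apply]
    exact Ideal.Quotient.eq_zero_iff_mem.mpr (hmax ▸ Ideal.mem_map_of_mem _ h5)
  rw [linearIndependent_iff'] at key
  by_cases hz : z ∈ c.support
  · refine Ideal.Quotient.eq_zero_iff_mem.mp (key c.support (fun w => Ideal.Quotient.mk J (c w)) ?_ z hz)
    rw [← hc, Finsupp.linearCombination_apply]
    exact Finset.sum_congr rfl fun w _ => algebraMap_smul (A ⧸ J) (c w) (v w)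
  · rw [Finsupp.notMem_support_iff.mp hz]
    exact zero_mem J

theorem exists_basis_mod (m : Ideal A) [m.IsMaximal] (M : Type u) [AddCommGroup M] [Module A M]
    (h : (m • ⊤ : Submodule A M) = ⊥) :
    ∃ (Z : Type u) (e : Z → M), Submodule.span A (Set.range e) = ⊤ ∧
      ∀ c : Z →₀ A, Finsupp.linearCombination A e c = 0 → ∀ z, c z ∈ m := by
  classical
  letI := Ideal.Quotient.field m
  have htors : Module.IsTorsionBySet A M (m : Set A) := fun x a => by
    have h' := Submodule.smul_mem_smul a.2 (Submodule.mem_top (x := x))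
    rwa [h, Submodule.mem_bot] at h'
  letI : Module (A ⧸ m) M := htors.module
  haveI : IsScalarTower A (A ⧸ m) M := htors.isScalarTower
  obtain ⟨Z, b⟩ := Module.Free.exists_basis (R := A ⧸ m) (M := M)
  refine ⟨Z, b, ?_, fun c hc z => ?_⟩
  · rw [← Submodule.restrictScalars_span A (A ⧸ m) Ideal.Quotient.mk_surjective, b.span_eq,
      Submodule.restrictScalars_top]
  · have hli := b.linearIndependent
    rw [linearIndependent_iff'] at hli
    by_cases hz : z ∈ c.support
    · refine Ideal.Quotient.eq_zero_iff_mem.mp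
        (hli c.support (fun w => Ideal.Quotient.mk m (c w)) ?_ z hz)
      rw [← hc, Finsupp.linearCombination_apply]
      exact Finset.sum_congr rfl fun w _ => algebraMap_smul (A ⧸ m) (c w) (b w)
    · rw [Finsupp.notMem_support_iff.mp hz]
      exact zero_mem m

theorem IsAdicSum.map {I : Ideal A} {Z : Type*} {M N : Type*} [AddCommGroup M] [Module A M]
    [AddCommGroup N] [Module A N] {f : Z → M} {x : M} (h : IsAdicSum I f x) (φ : M →ₗ[A] N) :
    IsAdicSum I (fun z => φ (f z)) (φ x) := fun n => by
  obtain ⟨S, hS, hx⟩ := h n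
  refine ⟨S, fun z hz => map_mem_pow_smul_top I φ (hS z hz), ?_⟩
  simpa using map_mem_pow_smul_top I φ hx

theorem isAdicFree_sysLim [IsNoetherianRing A] [IsLocalRing A]
    [IsAdicComplete (maximalIdeal A) A]
    (M : ℕ → Type u) [∀ n, AddCommGroup (M n)] [∀ n, Module A (M n)]
    [∀ n, Module (A ⧸ maximalIdeal A ^ (n + 1)) (M n)]
    [∀ n, IsScalarTower A (A ⧸ maximalIdeal A ^ (n + 1)) (M n)]
    [∀ n, Module.Flat (A ⧸ maximalIdeal A ^ (n + 1)) (M n)]
    (ψ : ∀ n, M (n + 1) →ₗ[A] M n) (hψ : ∀ n, Function.Surjective (ψ n))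
    (hker : ∀ n, LinearMap.ker (ψ n) =
      (maximalIdeal A ^ (n + 1) • ⊤ : Submodule A (M (n + 1)))) :
    IsAdicFree (maximalIdeal A) (sysLim M ψ) ∧
      ∀ n, Function.Surjective (sysProj M ψ n) ∧
        LinearMap.ker (sysProj M ψ n) =
          (maximalIdeal A ^ (n + 1) • ⊤ : Submodule A (sysLim M ψ)) := by
  classical
  have hbot : ∀ n, (maximalIdeal A ^ (n + 1) • ⊤ : Submodule A (M n)) = ⊥ := fun n =>
    smul_top_eq_bot _ _
  haveI hcomp : ∀ n, IsAdicComplete (maximalIdeal A) (M n) := fun n =>
    isAdicComplete_of_pow_smul_eq_bot _ (hbot n)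
  obtain ⟨Z, e0, hspan0, hind0⟩ := exists_basis_mod (maximalIdeal A) (M 0)
    (by simpa using hbot 0)
  let e : ∀ n, Z → M n := fun n => Nat.rec (motive := fun k => Z → M k) e0
    (fun k ek z => Function.surjInv (hψ k) (ek z)) n
  have he : ∀ n z, ψ n (e (n + 1) z) = e n z := fun n z => Function.surjInv_eq (hψ n) _
  let π : ∀ n, M n →ₗ[A] M 0 := fun n => Nat.rec (motive := fun k => M k →ₗ[A] M 0) LinearMap.id
    (fun k pk => pk ∘ₗ ψ k) n
  have hπe : ∀ n z, π n (e n z) = e0 z := by
    intro n
    induction n with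
    | zero => exact fun z => rfl
    | succ n ih => exact fun z => by rw [← ih z, ← he n z]; rfl
  have hπlc : ∀ (n : ℕ) (c : Z →₀ A),
      π n (Finsupp.linearCombination A (e n) c) = Finsupp.linearCombination A e0 c := fun n c => by
    rw [Finsupp.apply_linearCombination]
    exact congrArg (fun w => Finsupp.linearCombination A w c) (funext (hπe n))
  have hπker : ∀ n, LinearMap.ker (π n) ≤ (maximalIdeal A • ⊤ : Submodule A (M n)) := by
    intro n
    induction n with
    | zero => exact fun x hx => by rw [show x = 0 from hx]; exact Submodule.zero_mem _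
    | succ n ih =>
      intro x hx
      have h1 : ψ n x ∈ Submodule.map (ψ n) (maximalIdeal A • ⊤ : Submodule A (M (n + 1))) := by
        rw [Submodule.map_smul'', Submodule.map_top, LinearMap.range_eq_top.mpr (hψ n)]
        exact ih hx
      obtain ⟨y, hy, hyx⟩ := h1
      have h2 : x - y ∈ LinearMap.ker (ψ n) := by simp [hyx]
      rw [hker n] at h2
      have h3 : (maximalIdeal A ^ (n + 1) • ⊤ : Submodule A (M (n + 1))) ≤ maximalIdeal A • ⊤ :=
        Submodule.smul_mono_left (Ideal.pow_le_self (Nat.succ_ne_zero n))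
      simpa using Submodule.add_mem _ (h3 h2) hy
  have hgen : ∀ n (x : M n), ∃ c : Z →₀ A, Finsupp.linearCombination A (e n) c = x := by
    intro n
    refine exists_eq_linearCombination_of_mod (maximalIdeal A) (e n) (hbot n) ?_
    refine eq_top_iff.mpr fun x _ => ?_
    have h0 : π n x ∈ Submodule.span A (Set.range e0) := by rw [hspan0]; exact Submodule.mem_top
    rw [← Finsupp.range_linearCombination] at h0
    obtain ⟨c, hc⟩ := h0
    refine Submodule.mem_sup.mpr ⟨Finsupp.linearCombination A (e n) c, ?_,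
      x - Finsupp.linearCombination A (e n) c,
      hπker n (by rw [LinearMap.mem_ker, map_sub, hπlc, hc, sub_self]), add_sub_cancel _ _⟩
    rw [← Finsupp.range_linearCombination]
    exact ⟨c, rfl⟩
  have hind : ∀ n (c : Z →₀ A), Finsupp.linearCombination A (e n) c = 0 →
      ∀ z, c z ∈ maximalIdeal A ^ (n + 1) := fun n c hc z =>
    coeff_mem_of_linearCombination_eq_zero rfl (Ideal.pow_le_self (Nat.succ_ne_zero n)) (e n)
      (fun d hd => hind0 d (by
        rw [← hπlc n]
        have hd' := Submodule.mem_map_of_mem (f := π n) hd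
        rw [Submodule.map_smul''] at hd'
        have := Submodule.smul_mono le_rfl (le_top : Submodule.map (π n) ⊤ ≤ ⊤) hd'
        have hb0 : (maximalIdeal A • ⊤ : Submodule A (M 0)) = ⊥ := by simpa using hbot 0
        rwa [hb0, Submodule.mem_bot] at this)) hc z
  -- the map
  have hval : ∀ n (g : decaying (maximalIdeal A) Z A) (S : Finset Z),
      (∀ z, z ∉ S → (g : Z → A) z ∈ maximalIdeal A ^ (n + 1)) →
      sumMap (maximalIdeal A) (e n) g =
        Finsupp.linearCombination A (e n) (∑ z ∈ S, Finsupp.single z ((g : Z → A) z)) := by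
    intro n g S hS
    have h := (isAdicSum_sumMap (maximalIdeal A) (e n) g).sub_mem (S := S) (n := n + 1)
      (fun z hz => Submodule.smul_mem_smul (hS z hz) Submodule.mem_top)
    rw [hbot n, Submodule.mem_bot, sub_eq_zero] at h
    simpa [map_sum, Finsupp.linearCombination_single] using h
  have hΦmem : ∀ g : decaying (maximalIdeal A) Z A,
      (fun n => sumMap (maximalIdeal A) (e n) g) ∈ sysLim M ψ := fun g n => by
    have h := (isAdicSum_sumMap (maximalIdeal A) (e (n + 1)) g).map (ψ n)
    simp only [map_smul, he] at h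
    exact h.unique (isAdicSum_sumMap (maximalIdeal A) (e n) g)
  let Φ : decaying (maximalIdeal A) Z A →ₗ[A] sysLim M ψ :=
    (LinearMap.pi fun n => sumMap (maximalIdeal A) (e n)).codRestrict (sysLim M ψ) hΦmem
  have hΦval : ∀ g n, ((Φ g : sysLim M ψ) : ∀ k, M k) n = sumMap (maximalIdeal A) (e n) g :=
    fun g n => rfl
  have hzero : ∀ g n, sumMap (maximalIdeal A) (e n) g = 0 ↔
      ∀ z, (g : Z → A) z ∈ maximalIdeal A ^ (n + 1) := by
    intro g n
    constructor
    · intro h z
      have hb : ∀ w, w ∉ (g.2 (n + 1)).toFinset →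
          (g : Z → A) w ∈ maximalIdeal A ^ (n + 1) := fun w hw => by
        by_contra h'
        exact hw ((g.2 (n + 1)).mem_toFinset.mpr (by simpa using h'))
      by_cases hz : z ∈ (g.2 (n + 1)).toFinset
      · rw [hval n g _ hb] at h
        have h' := hind n _ h z
        rwa [Finsupp.finsetSum_apply, Finset.sum_eq_single z
          (fun w _ hw => Finsupp.single_eq_of_ne (Ne.symm hw))
          (fun hz' => absurd hz hz'), Finsupp.single_eq_same] at h'
      · exact hb z hz
    · intro h
      rw [hval n g ∅ (fun z _ => h z)]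
      simp
  have hinj : Function.Injective Φ := by
    rw [← LinearMap.ker_eq_bot, LinearMap.ker_eq_bot']
    intro g hg
    refine Subtype.ext <| funext fun z => eq_zero_of_forall_mem_pow (maximalIdeal A) fun n => ?_
    have h1 : sumMap (maximalIdeal A) (e n) g = 0 := by rw [← hΦval, hg]; rfl
    have h2 := Ideal.pow_le_pow_right (Nat.le_succ n) ((hzero g n).mp h1 z)
    simpa using h2
  have hsurj : Function.Surjective Φ := by
    rintro ⟨x, hx⟩
    choose c hc using fun n => hgen n (x n)
    have hstep : ∀ n z, c (n + 1) z - c n z ∈ maximalIdeal A ^ (n + 1) := fun n z => by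
      rw [← Finsupp.sub_apply]
      refine hind n _ ?_ z
      rw [map_sub, hc n, ← hx n, ← hc (n + 1), Finsupp.apply_linearCombination, sub_eq_zero]
      exact (congrArg (fun w => Finsupp.linearCombination A w (c (n + 1))) (funext (he n))).symm
    choose g hg using fun z => exists_limit (maximalIdeal A) (fun n => c n z) (fun n => by
      simpa using Ideal.pow_le_pow_right (Nat.le_succ n) (hstep n z))
    have hg' : ∀ n z, g z - c n z ∈ maximalIdeal A ^ (n + 1) := fun n z => by
      have h1 : g z - c (n + 1) z ∈ maximalIdeal A ^ (n + 1) := by simpa using hg z (n + 1)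
      simpa using Ideal.add_mem _ h1 (hstep n z)
    have hout : ∀ n z, z ∉ (c n).support → g z ∈ maximalIdeal A ^ (n + 1) := fun n z hz => by
      simpa [Finsupp.notMem_support_iff.mp hz] using hg' n z
    have hdec : g ∈ decaying (maximalIdeal A) Z A := fun n =>
      (c n).support.finite_toSet.subset fun z hz => by
        by_contra h'
        refine hz ?_
        simpa using Ideal.pow_le_pow_right (Nat.le_succ n) (hout n z (by simpa using h'))
    refine ⟨⟨g, hdec⟩, Subtype.ext <| funext fun n => ?_⟩
    show sumMap (maximalIdeal A) (e n) ⟨g, hdec⟩ = x n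
    rw [hval n _ (c n).support (hout n), ← hc n, map_sum]
    conv_rhs => rw [← Finsupp.sum_single (c n), Finsupp.sum, map_sum]
    refine Finset.sum_congr rfl fun z _ => ?_
    simp only [Finsupp.linearCombination_single]
    rw [← sub_eq_zero, ← sub_smul]
    exact smul_eq_zero_of_mem (hg' n z) _
  let Φe := LinearEquiv.ofBijective Φ ⟨hinj, hsurj⟩
  refine ⟨⟨Z, ⟨Φe.symm.trans (decayingCompletionEquiv (maximalIdeal A) Z)⟩⟩, fun n => ⟨?_, ?_⟩⟩
  · intro x
    obtain ⟨c, hc⟩ := hgen n x
    refine ⟨Φ ⟨c, finsupp_mem_decaying _ c⟩, ?_⟩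
    rw [sysProj_apply, hΦval, hval n _ c.support
      (fun z hz => by simp [Finsupp.notMem_support_iff.mp hz]), ← hc]
    congr 1
    exact Finsupp.sum_single c
  · refine le_antisymm (fun x hx => ?_) ?_
    · obtain ⟨g, rfl⟩ := hsurj x
      refine map_mem_pow_smul_top _ Φ ((mem_pow_smul_decaying_iff _ _ _).mpr ((hzero g n).mp ?_))
      simpa [hΦval] using hx
    · intro x hx
      rw [LinearMap.mem_ker]
      have := map_mem_pow_smul_top (maximalIdeal A) (sysProj M ψ n) hx
      rwa [hbot n, Submodule.mem_bot] at this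

theorem isAdicFree_of_flat [IsNoetherianRing A] [IsLocalRing A] [IsAdicComplete (maximalIdeal A) A]
    (M : Type u) [AddCommGroup M] [Module A M] [Module.Flat A M]
    [IsAdicComplete (maximalIdeal A) M] : IsAdicFree (maximalIdeal A) M := by
  let N : ℕ → Type u := fun n => M ⧸ (maximalIdeal A ^ (n + 1) • ⊤ : Submodule A M)
  haveI : ∀ n, Module.Flat (A ⧸ maximalIdeal A ^ (n + 1)) (N n) := fun n =>
    Module.Flat.of_linearEquiv
      ((LinearEquiv.extendScalarsOfSurjective (R := A) (S := A ⧸ maximalIdeal A ^ (n + 1))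
        Ideal.Quotient.mk_surjective
        (TensorProduct.quotTensorEquivQuotSMul M (maximalIdeal A ^ (n + 1)))).symm)
  let ψ : ∀ n, N (n + 1) →ₗ[A] N n := fun n =>
    Submodule.factor (pow_smul_top_antitone (maximalIdeal A) (Nat.le_succ (n + 1)))
  have hψ : ∀ n, Function.Surjective (ψ n) := fun n =>
    Submodule.factor_surjective _
  have hker : ∀ n, LinearMap.ker (ψ n) =
      (maximalIdeal A ^ (n + 1) • ⊤ : Submodule A (N (n + 1))) := fun n => by
    show LinearMap.ker (Submodule.factor _) = _
    rw [Submodule.factor, Submodule.mapQ, Submodule.ker_liftQ, LinearMap.comp_id,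
      Submodule.ker_mkQ, Submodule.map_smul'', Submodule.map_top, Submodule.range_mkQ]
  obtain ⟨⟨Z, ⟨e⟩⟩, -⟩ := isAdicFree_sysLim N ψ hψ hker
  let F : M →ₗ[A] sysLim N ψ :=
    (LinearMap.pi fun n => Submodule.mkQ _).codRestrict (sysLim N ψ) (fun x n => rfl)
  have hF : Function.Bijective F := by
    refine ⟨?_, fun x => ?_⟩
    · rw [← LinearMap.ker_eq_bot, LinearMap.ker_eq_bot']
      intro x hx
      refine eq_zero_of_forall_mem_pow (maximalIdeal A) fun n =>
        pow_smul_top_antitone _ (Nat.le_succ n) ?_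
      exact (Submodule.Quotient.mk_eq_zero _).mp (congrArg (fun y : sysLim N ψ => (y : ∀ k, N k) n) hx)
    · choose y hy using fun n => Submodule.Quotient.mk_surjective _ ((x : ∀ k, N k) n)
      have hstep : ∀ n, y (n + 1) - y n ∈ (maximalIdeal A ^ (n + 1) • ⊤ : Submodule A M) := fun n => by
        rw [← Submodule.Quotient.eq, hy n]
        refine Eq.trans ?_ (x.2 n)
        rw [← hy (n + 1)]
        rfl
      obtain ⟨L, hL⟩ := exists_limit (maximalIdeal A) y
        (fun n => pow_smul_top_antitone _ (Nat.le_succ n) (hstep n))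
      refine ⟨L, Subtype.ext <| funext fun n => ?_⟩
      show Submodule.Quotient.mk L = _
      rw [← hy n, Submodule.Quotient.eq]
      simpa using Submodule.add_mem _ (hL (n + 1)) (hstep n)
  exact ⟨Z, ⟨(LinearEquiv.ofBijective F hF).trans e⟩⟩

theorem isAdicFree_iff [IsNoetherianRing A] [IsLocalRing A] [IsAdicComplete (maximalIdeal A) A]
    (M : Type u) [AddCommGroup M] [Module A M] :
    IsAdicFree (maximalIdeal A) M ↔ Module.Flat A M ∧ IsAdicComplete (maximalIdeal A) M := by
  constructor
  · rintro ⟨Z, ⟨e⟩⟩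
    have e' : decaying (maximalIdeal A) Z A ≃ₗ[A] M :=
      (decayingCompletionEquiv (maximalIdeal A) Z).trans e.symm
    haveI := flat_decaying (Z := Z) (maximalIdeal A)
    haveI := isAdicComplete_decaying (Z := Z) (M := A) (maximalIdeal A) (IsNoetherian.noetherian _)
    exact ⟨Module.Flat.of_linearEquiv e'.symm, isAdicComplete_of_linearEquiv _ e'⟩
  · rintro ⟨h1, h2⟩
    haveI := h1
    haveI := h2
    exact isAdicFree_of_flat M

end L02.CAlg.AdicDecay
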