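import Groth.Agent.L02.CAlg.AdicDecay.Finite
import Mathlib.Algebra.Colimit.TensorProduct
import Groth.Prelude.Def_CAlgX

/-!
The completion of a free module is universally injective in the product.
-/

set_option autoImplicit false

universe u

open Submodule W4c5adicflatcompl TensorProduct

namespace L02.CAlg.AdicDecay

theorem lTensor_injective_of_finite {R : Type u} [CommRing R] {C P : Type u} [AddCommGroup C]
    [Module R C] [AddCommGroup P] [Module R P] (f : C →ₗ[R] P)
    (h : ∀ (N : Type u) [AddCommGroup N] [Module R N], Module.Finite R N →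
      Function.Injective (f.lTensor N))
    (Q : Type u) [AddCommGroup Q] [Module R Q] : Function.Injective (f.lTensor Q) := by
  rw [← LinearMap.ker_eq_bot, LinearMap.ker_eq_bot']
  intro t ht
  obtain ⟨N, hNfin, hN⟩ :=
    TensorProduct.exists_finite_submodule_left_of_setFinite ({t} : Set (Q ⊗[R] C))
      (Set.finite_singleton t)
  obtain ⟨t', rfl⟩ := hN rfl
  have hc : ∀ (N₁ N₂ : Type u) [AddCommGroup N₁] [Module R N₁] [AddCommGroup N₂] [Module R N₂]
      (i : N₁ →ₗ[R] N₂) (x : N₁ ⊗[R] C),
      i.rTensor P (f.lTensor N₁ x) = f.lTensor N₂ (i.rTensor C x) := fun N₁ N₂ _ _ _ _ i x => by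
    rw [← LinearMap.comp_apply, LinearMap.rTensor_comp_lTensor, ← LinearMap.comp_apply,
      LinearMap.lTensor_comp_rTensor]
  have h0 : N.subtype.rTensor P (f.lTensor N t') = N.subtype.rTensor P 0 := by
    rw [hc, map_zero]
    exact ht
  obtain ⟨N', hN', hle, he⟩ :=
    Submodule.FG.exists_rTensor_fg_inclusion_eq (Module.Finite.iff_fg.mp hNfin) h0
  rw [map_zero, hc] at he
  have := (injective_iff_map_eq_zero _).mp (h N' (Module.Finite.iff_fg.mpr hN')) _ he
  rw [show N.subtype = N'.subtype ∘ₗ Submodule.inclusion hle from rfl, LinearMap.rTensor_comp_apply,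
    this, map_zero]

theorem universallyInjective_coords {R : Type u} [CommRing R] [IsNoetherianRing R] (I : Ideal R)
    [IsAdicComplete I R] (α : Type u) :
    CAlgX.UniversallyInjective R
      (LinearMap.pi fun a : α => AdicCompletion.map I (Finsupp.lapply a : (α →₀ R) →ₗ[R] R) :
        AdicCompletion I (α →₀ R) →ₗ[R] (α → AdicCompletion I R)) := by
  haveI := AdicCompletion.isAdicComplete (M := R) (IsNoetherian.noetherian I)
  intro Q _ _
  let f : AdicCompletion I (α →₀ R) →ₗ[R] (α → AdicCompletion I R) := coords I α R
  show Function.Injective (f.rTensor Q)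
  have key : Function.Injective (f.lTensor Q) := by
    refine lTensor_injective_of_finite f (fun N _ _ hN => ?_) Q
    haveI := hN
    let E : AdicCompletion I (α →₀ R) ≃ₗ[R] decaying I α R :=
      (completionEquiv I α R).trans (decayingCompletionEquiv I α).symm
    let e : (α → AdicCompletion I R) →ₗ[R] (α → R) :=
      LinearMap.pi fun a => (AdicCompletion.ofLinearEquiv I R).symm.toLinearMap ∘ₗ LinearMap.proj a
    have hfac : (TensorProduct.piScalarRightHom R R N α) ∘ₗ e.lTensor N ∘ₗ f.lTensor N =
        tensorToPi I α N ∘ₗ (E.toLinearMap).lTensor N := by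
      rw [tensorToPi, LinearMap.comp_assoc, ← LinearMap.lTensor_comp, ← LinearMap.lTensor_comp]
      rfl
    refine Function.Injective.of_comp
      (f := fun x => (TensorProduct.piScalarRightHom R R N α) (e.lTensor N x)) ?_
    intro x y hxy
    have hxy' : tensorToPi I α N ((E.toLinearMap).lTensor N x) =
        tensorToPi I α N ((E.toLinearMap).lTensor N y) :=
      ((LinearMap.congr_fun hfac x).symm.trans hxy).trans (LinearMap.congr_fun hfac y)
    exact (LinearEquiv.lTensor N E).injective (tensorToPi_injective I hxy')
  intro x y hxy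
  apply (TensorProduct.comm R _ Q).injective
  apply key
  have hc : ∀ z, f.lTensor Q (TensorProduct.comm R _ Q z) =
      TensorProduct.comm R _ Q (f.rTensor Q z) := fun z => by
    induction z using TensorProduct.induction_on with
    | zero => simp
    | tmul a b => simp
    | add a b ha hb => simp only [map_add, ha, hb]
  rw [hc, hc, hxy]

end L02.CAlg.AdicDecay
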